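import Cfsg.Agent.OM.On.E6.Box

/-!
# OM/On/E6: isolated points of the alcove are vertices (helper46)
-/

set_option autoImplicit false
set_option linter.unusedSectionVars false
set_option maxRecDepth 100000

namespace Cfsg.Agent.OM.On.E6

open Cfsg Matrix Cfsg.Agent.HZ.L Cfsg.Agent.BZ.TA Cfsg.Agent.OM.Cu

namespace Alc

/-- three times the inverse of the Cartan matrix -/
def A6 : Mat (Fin 6) := !![4, 5, 6, 4, 2, 3; 5, 10, 12, 8, 4, 6; 6, 12, 18, 12, 6, 9; 4, 8, 12, 10, 5, 6; 2, 4, 6, 5, 4, 3;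
  3, 6, 9, 6, 3, 6]

theorem mul_A6 : C6 * A6 = (3 : ℤ) • (1 : Mat (Fin 6)) := by decide +kernel

theorem tab : (∀ u < 72, (∀ j, 0 ≤ rt u j ∧ rt u j ≤ th j) ∨ ∀ j, 0 ≤ -rt u j ∧ -rt u j ≤ th j) ∧
    (∃ u < 72, ∀ j, rt u j = th j) ∧ (∀ j, 0 < th j) ∧ th 0 = 1 := by decide +kernel

variable {n : ℕ} {t β : Vec (Fin 6)}

theorem pos (h0 : ∀ i, 0 ≤ t i) (h1 : t ⬝ᵥ (fun j => (th j : ℤ)) ≤ n) (hβ : ∀ j, 0 ≤ β j ∧ β j ≤ th j) (h : (n : ℤ) ∣ t ⬝ᵥ β) :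
    ∃ ε : ℤ, (ε = 0 ∨ t ⬝ᵥ (fun j => (th j : ℤ)) = n) ∧ ∀ k, t k ≠ 0 → β k = ε * th k := by
  have h2 : ∀ k ∈ (Finset.univ : Finset (Fin 6)), 0 ≤ t k * β k := fun k _ => mul_nonneg (h0 k) (hβ k).1
  have h3 : ∀ k ∈ (Finset.univ : Finset (Fin 6)), t k * β k ≤ t k * th k := fun k _ => mul_le_mul_of_nonneg_left (hβ k).2 (h0 k)
  have h4 : t ⬝ᵥ β ≤ t ⬝ᵥ fun j => (th j : ℤ) := Finset.sum_le_sum h3
  rcases (show 0 ≤ t ⬝ᵥ β from Finset.sum_nonneg h2).eq_or_lt with h5 | h5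
  · refine ⟨0, Or.inl rfl, fun k hk => ?_⟩
    rw [zero_mul]
    exact (mul_eq_zero.1 ((Finset.sum_eq_zero_iff_of_nonneg h2).1 h5.symm k (Finset.mem_univ k))).resolve_left hk
  · have h6 := Int.le_of_dvd h5 h
    refine ⟨1, Or.inr (le_antisymm h1 (h6.trans h4)), fun k hk => ?_⟩
    rw [one_mul]
    exact mul_left_cancel₀ hk ((Finset.sum_eq_sum_iff_of_le h3).1 (le_antisymm h4 (h1.trans h6)) k (Finset.mem_univ k))

theorem key (h0 : ∀ i, 0 ≤ t i) (h1 : t ⬝ᵥ (fun j => (th j : ℤ)) ≤ n) {a : Vec (Fin 6) × Vec (Fin 6)} (ha : a ∈ Zt (Rc C6) n t) :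
    ∃ ε : ℤ, (ε = 0 ∨ t ⬝ᵥ (fun j => (th j : ℤ)) = n) ∧ ∀ k, t k ≠ 0 → a.2 k = ε * th k := by
  obtain ⟨u, hu, rfl⟩ := mem_Rc ha.1
  rcases tab.1 u hu with h | h
  · exact pos h0 h1 h ha.2
  · obtain ⟨ε, h2, h3⟩ := pos (β := -rt u) h0 h1 h (by rw [dotProduct_neg]; exact ha.2.neg_right)
    exact ⟨-ε, h2.imp_left neg_eq_zero.2, fun k hk => by rw [neg_mul, ← h3 k hk]; exact (neg_neg _).symm⟩

theorem zero {Z : RS (Fin 6)} (hZ : Z ⊆ Rc C6) (h : ∀ lam, Perp Z lam → lam = 0) {x : Vec (Fin 6)} (hx : ∀ a ∈ Z, a.2 ⬝ᵥ x = 0) :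
    x = 0 := by
  have h1 : C6 *ᵥ (A6 *ᵥ x) = (3 : ℤ) • x := by rw [mulVec_mulVec, mul_A6, smul_mulVec, one_mulVec]
  have h2 := h (A6 *ᵥ x) fun a ha => by rw [fst_eq (hZ ha), ← dotProduct_mulVec, h1, dotProduct_smul, hx a ha, smul_zero]
  rw [h2, mulVec_zero] at h1
  exact (smul_eq_zero.1 h1.symm).resolve_left (by decide)

end Alc

open Alc in
theorem boxAlc : BoxAlc := by
  intro n t hn h0 h1 h2
  obtain ⟨u, hu, h3⟩ := tab.2.1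
  have h4 : t ⬝ᵥ (fun j => (th j : ℤ)) ≤ n := funext h3 ▸ h1 _ (pr_mem hu)
  have h5 : Zt (Rc C6) n t ⊆ Rc C6 := fun _ h => h.1
  by_cases hi : ∃ i, t i ≠ 0
  swap
  · push Not at hi
    refine ⟨0, Set.ext fun a => and_congr_right fun _ => ?_⟩
    rw [show t = 0 from funext hi, zero_dotProduct, tab.2.2.2]
    exact iff_of_true (dvd_zero _) (one_dvd _)
  obtain ⟨i, hi⟩ := hi
  by_cases hj : ∃ j, j ≠ i ∧ t j ≠ 0
  · obtain ⟨j, hj, hj'⟩ := hj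
    have h6 := congrFun (zero h5 h2 (x := Pi.single i (th j : ℤ) - Pi.single j (th i : ℤ)) fun a ha => by
      obtain ⟨ε, -, h6⟩ := key h0 h4 ha
      rw [dotProduct_sub, dotProduct_single, dotProduct_single, h6 i hi, h6 j hj']
      ring) i
    rw [Pi.sub_apply, Pi.single_eq_same, Pi.single_eq_of_ne hj.symm, sub_zero] at h6
    exact absurd (Nat.cast_eq_zero.1 h6) (tab.2.2.1 j).ne'
  push Not at hj
  have h6 : ∀ β, t ⬝ᵥ β = t i * β i := fun β =>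
    Finset.sum_eq_single i (fun j _ h => by rw [hj j h, zero_mul]) fun h => absurd (Finset.mem_univ i) h
  by_cases h7 : t ⬝ᵥ (fun j => (th j : ℤ)) = n
  · refine ⟨i, Set.ext fun a => and_congr_right fun _ => ?_⟩
    rw [← h7, h6, h6]
    exact mul_dvd_mul_iff_left hi
  · have h8 := congrFun (zero h5 h2 (x := Pi.single i 1) fun a ha => by
      obtain ⟨ε, h8, h9⟩ := key h0 h4 ha
      rw [dotProduct_single, h9 i hi, h8.resolve_right h7, zero_mul, zero_mul]) i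
    rw [Pi.single_eq_same] at h8
    exact absurd h8 one_ne_zero

end Cfsg.Agent.OM.On.E6
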