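import Cfsg.Agent.OM.On.E6.Box
import Cfsg.Agent.OM.On.E6.Ax

/-!
# OM/On/E6: the pure statement (helper49)
-/

set_option autoImplicit false

namespace Cfsg.Agent.OM.On.E6

open Cfsg Matrix Cfsg.Agent.HZ.L Cfsg.Agent.BZ.TA Cfsg.Agent.OM.Cu

theorem zt_sub {R : Type} [Fintype R] (Ψ : RS R) (n : ℕ) (t v : Vec R) : Zt Ψ n (t - (n : ℤ) • v) = Zt Ψ n t :=
  Set.ext fun b => and_congr_right fun _ => by
    rw [sub_dotProduct, smul_dotProduct, smul_eq_mul]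
    exact dvd_sub_left (dvd_mul_right _ _)

/-- **[Pu]** -/
theorem boxPu_of (hT : BoxTab) (hR : BoxRef) (hA : BoxAlc) : BoxPu := fun n t hn =>
  alc_ind (P := fun t => PZ (Zt (Rc C6) n t)) Eng.carE6 hn (hR n) (fun t a _ h => zt_sub (Rc C6) n t a.1 ▸ h)
    (fun t h1 h2 h3 => (hA n t hn h1 h2 h3).elim fun i e => e ▸ hT i) t

end Cfsg.Agent.OM.On.E6
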