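import Cfsg.Agent.OM.On.E6.Box

/-!
# OM/On/E6: conjugation by a reflection (helper34)

**`boxRef : BoxRef`**.
-/

set_option autoImplicit false
set_option linter.unusedSectionVars false
set_option maxHeartbeats 200000

namespace Cfsg.Agent.OM.On.E6

open Cfsg Matrix Cfsg.Agent.HZ.L Cfsg.Agent.BZ.TA Cfsg.Agent.OM.Cu

namespace Rf

variable {R : Type} [Fintype R] [DecidableEq R] {Ψ Z Z' : RS R} {ρ A u : Mat R} {f : Mat R → ℂ}

/-- the action on the pairs -/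
def sg (ρ : Mat R) (b : Vec R × Vec R) : Vec R × Vec R := (b.1 ᵥ* ρ, ρ *ᵥ b.2)

variable (h : ρ * ρ = 1)
include h

theorem sg_sg (b : Vec R × Vec R) : sg ρ (sg ρ b) = b := by
  simp only [sg, vecMul_vecMul, mulVec_mulVec, h, vecMul_one, one_mulVec]

theorem cc (A : Mat R) : ρ * (ρ * A * ρ) * ρ = A := by
  rw [← mul_assoc, ← mul_assoc, h, one_mul, mul_assoc, h, mul_one]

theorem cm (A B : Mat R) : ρ * A * ρ * (ρ * B * ρ) = ρ * (A * B) * ρ := by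
  rw [mul_assoc ρ B, mul_assoc _ ρ, ← mul_assoc ρ ρ, h, one_mul, ← mul_assoc, mul_assoc ρ]

theorem rfm_sg (b : Vec R × Vec R) : rfm (sg ρ b) = ρ * rfm b * ρ := by
  rw [mul_rfm (A := ρ) (a := b) (b := sg ρ b) rfl (congrArg Prod.fst (sg_sg h b)), mul_assoc, h, mul_one]

theorem sg_mem (hn : Nm ρ Ψ) {b : Vec R × Vec R} (hb : b ∈ Ψ) : sg ρ b ∈ Ψ := by
  obtain ⟨c, hc, e1, e2⟩ := hn b hb
  rwa [show sg ρ b = c from Prod.ext (by rw [sg, ← e2, vecMul_vecMul, h, vecMul_one]) e1]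

theorem eig (hn : Nm ρ Ψ) {μ : ℂ} (H : Eig Ψ A μ) : Eig Ψ (ρ * A * ρ) μ := by
  obtain ⟨y, hy, a, ha, e⟩ := H
  have k : ∀ X Y : Mat R, (X * Y).map (Int.cast : ℤ → ℂ) = X.map Int.cast * Y.map Int.cast := fun X Y =>
    Matrix.map_mul (f := Int.castRingHom ℂ)
  have k1 : ρ.map (Int.cast : ℤ → ℂ) *ᵥ (ρ.map Int.cast *ᵥ y) = y := by
    rw [mulVec_mulVec, ← k, h, Matrix.map_one _ Int.cast_zero Int.cast_one, one_mulVec]
  refine ⟨ρ.map Int.cast *ᵥ y, ?_, _, sg_mem h hn ha, ?_⟩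
  · rw [IsE, k, k, ← mulVec_mulVec, ← mulVec_mulVec, k1, hy, mulVec_smul]
  · have k2 : (fun i => (((sg ρ a).1 i : ℤ) : ℂ)) = (fun i => (a.1 i : ℂ)) ᵥ* ρ.map Int.cast := funext fun i => by
      simp [sg, vecMul, dotProduct]
    rwa [ev, k2, ← dotProduct_mulVec, k1]

variable (hZ : ∀ b, b ∈ Z' ↔ sg ρ b ∈ Z)
include hZ

theorem back {b : Vec R × Vec R} (hb : b ∈ Z) : sg ρ b ∈ Z' := (hZ _).2 ((sg_sg h b).symm ▸ hb)

theorem top (H : ∀ lam, Perp Z lam → lam = 0) (lam : Vec R) (hl : Perp Z' lam) : lam = 0 := by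
  rw [← one_mulVec lam, ← h, ← mulVec_mulVec, H (ρ *ᵥ lam) fun b hb => (dotProduct_mulVec _ _ _).trans (hl _ (back h hZ hb)),
    mulVec_zero]

theorem ww (hu : u ∈ WW Z') : ρ * u * ρ ∈ WW Z := by
  induction hu using Submonoid.closure_induction with
  | mem _ hx => obtain ⟨b, hb, rfl⟩ := hx; exact rfm_sg h b ▸ rfm_mem ((hZ b).1 hb)
  | one => rw [mul_one, h]; exact one_mem _
  | mul x y _ _ hx hy => exact cm h x y ▸ mul_mem hx hy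

theorem hz (hc : ∀ A, Co Ψ 1 A → Co Ψ 1 (ρ * A * ρ)) (H : Hz Ψ Z 1 f) : Hz Ψ Z' 1 fun X => f (ρ * X * ρ) where
  cj u hu A hA := by rw [← cm h, ← cm h]; exact H.cj _ (ww h hZ hu) _ (hc A hA)
  cas A hA := by
    rw [← H.cas _ (hc A hA)]
    refine finsum_mem_eq_of_bijOn (fun r => ρ * r * ρ) ⟨?_, fun r _ r' _ e => ?_, ?_⟩ fun r _ => by rw [cm h]
    · rintro _ ⟨b, hb, rfl⟩
      exact ⟨_, (hZ b).1 hb, rfm_sg h b⟩
    · rw [← cc h r, ← cc h r']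
      exact congrArg (ρ * · * ρ) e
    · rintro _ ⟨b, hb, rfl⟩
      exact ⟨_, ⟨_, back h hZ hb, rfl⟩, by rw [rfm_sg h]; exact cc h _⟩
  nm A hA e b hb := by
    obtain ⟨c, hc', e1, e2⟩ := H.nm _ (hc A hA) e _ ((hZ b).1 hb)
    refine ⟨_, back h hZ hc', ?_, ?_⟩
    · rw [sg, ← e1, sg, mulVec_mulVec, mulVec_mulVec, cc h]
    · have e3 := congrArg (· ᵥ* ρ) e2
      simp only [sg, vecMul_vecMul, mul_assoc, h, mul_one, vecMul_one] at e3 ⊢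
      exact e3

end Rf

open Rf in
/-- **[Ref]** -/
theorem boxRef : BoxRef := fun n t a ha H h0 f hf m hm h1 A hA => by
  have h := rfm_sq (rs6.two a ha)
  have hn : Nm (rfm a) (Rc C6) := rs6.nm _ (rs6.ww ▸ rfm_mem ha)
  have hZ : ∀ b, b ∈ Zt (Rc C6) n (t ᵥ* rfm a) ↔ sg (rfm a) b ∈ Zt (Rc C6) n t := fun b =>
    and_congr ⟨sg_mem h hn, fun e => sg_sg h b ▸ sg_mem h hn e⟩ (by rw [← dotProduct_mulVec]; rfl)
  have hc : ∀ A, Co (Rc C6) 1 A → Co (Rc C6) 1 (rfm a * A * rfm a) := fun A hA =>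
    (hA.rf ha).mul_right (Nm.one _) (rfm_mem ha)
  rw [← cc h A]
  exact H (top h hZ h0) _ (hz h hZ hc hf) m hm (fun k hk e => (h1 k hk e).imp fun _ e =>
    ⟨e.1, fun X hX e' => e.2 _ (hc X hX) (eig h hn e')⟩) _ (hc A hA)

end Cfsg.Agent.OM.On.E6
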