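import Cfsg.Agent.OM.Cu.Bas
import Cfsg.Agent.OM.Cu.Rs
import Cfsg.Agent.OM.Cu.Eig
import Cfsg.Agent.OM.Cu.EngC

/-!
# OM/On/E6: functions on the cosets of reflection subgroups of `W(E₆)` killed by the sum of the reflections; the checker (helper66)
-/

set_option autoImplicit false
set_option linter.unusedSectionVars false
set_option maxRecDepth 100000

namespace Cfsg.Agent.OM.On.E6

open Cfsg Matrix Cfsg.Agent.HZ.L Cfsg.Agent.BZ.TA Cfsg.Agent.OM.Cu Finset Polynomial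

section Gen

variable {R : Type} [Fintype R] [DecidableEq R]

/-- the hypotheses on `f` -/
structure Hz (Ψ Z : RS R) (B : Mat R) (f : Mat R → ℂ) : Prop where
  cj : ∀ u ∈ WW Z, ∀ A, Co Ψ B A → f (u * A) = f (A * u)
  cas : ∀ A, Co Ψ B A → ∑ᶠ ρ ∈ rfm '' Z, f (ρ * A) = 0
  nm : ∀ A, Co Ψ B A → f A ≠ 0 → Nm A Z

/-- `f` misses the eigenvalue -/
def Ms (Ψ : RS R) (B : Mat R) (f : Mat R → ℂ) (μ : ℂ) : Prop := ∀ A, Co Ψ B A → Eig Ψ A μ → f A = 0

/-- only zero misses both eigenvalues -/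
def Un (Ψ Z : RS R) (B : Mat R) (μ ν : ℂ) : Prop :=
  ∀ f, Hz Ψ Z B f → Ms Ψ B f μ → Ms Ψ B f ν → ∀ A, Co Ψ B A → f A = 0

theorem eig_all {A : Mat R} {d : ℕ} {v : Vec R} (hd : 0 < d) (hv : v ≠ 0) (h : aeval A (cyclotomic d ℤ) *ᵥ v = 0) {μ : ℂ}
    (hμ : IsPrimitiveRoot μ d) : ∃ y, y ≠ 0 ∧ IsE A μ y := by
  obtain ⟨ν, y, h1, h2, h3⟩ := eig_wit A d v hd hv h
  obtain ⟨g, hg⟩ := minpoly.isIntegrallyClosed_dvd (h1.isIntegral hd) (Eg.root_iff.2 ⟨y, h2, h3⟩)
  refine Eg.root_iff.1 ?_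
  rw [hg, map_mul, ← cyclotomic_eq_minpoly h1 hd, cyclotomic_eq_minpoly hμ hd, minpoly.aeval, zero_mul]

end Gen

/-- the Cartan matrix -/
abbrev C6 : Mat (Fin 6) := cm 6 (cT 2 6)

theorem rs6 : Rs C6 ![1, 1, 1, 1, 1, 1] := boxRs _ _ Eng.carE6

def RT : ℕ := 0x2305070b0d1011131516173c191a1b381c361d1e33321f30202e2d2c212a22282726252447292b2f31343537393a3b183d3e3f14401241420f0e430c440a0908450646040302010029220208090c0e0f123e14163b183919371b35341c1d311e2f2e1f202b2a4728272125240546262c2d303233361a383a173c153d133f111040410d420b0a434407062304034501002b2621030106410a3f0e3d11123a141537171834331a31302f1c2d2c471e292820461f2407024527252a1d2e1b32193536163839133b3c100f3e0d0c0b40090823420504442243002f2c2720430401403f090a0d3b3a0f38121335341532183047191a462b2a291e45261d240b0803441f28251c1b2d2e311716331436371110390e3c0c233d3e220706054221024100312d25441f42030006083d0b0c3a39103736351433324717182e461a2b1b29281d26451c0d090120431e27242a2c192f3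0161534131211380f0e233b3c0a223e073f05044102214034302a28431e4140013e3d3c090a390d0e360f47111314462f16172c2b45294427261b24100c06041f421d1c251a19182d2e153132123323353738220b3a3b080721052003023f003532452527421d40040200073b3a39380c36470f104631132f2e2d2c182a291b431a4419110e2101031e411c2826242b171615143012233334220d370b0a09083c06053f1f3e203d37332e442442411c3f3e033c3b060838470b0c0e4610311112452d152b16292819262543130f0a20001e1d401b1a2718172a2c14232f303222340d3536210939073a05043d02011f393645442a2528401b3e3d3c02004707084635340b3231300f2e2d131443294127174216151221200601041c3f1a19182624232b2c2211102f0e0d0c330a0937381f051d033b1e3a3a46322d2c4226403f1a3d05044700380636350a334531302f1044432b1318172741251516220e09081e021c1b3e1929282324142a12112e0f210d0c0b34201f07373c3b031d01393b38452e434224273f3e193c470402463707350933320c0d2f44102c122a2916401525411714210a1f1e00031b1a3d1823282622132b112d0f0e30310b2034083606053a1c39011d473a35312f422b403f293d18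3b463904370045340632440a430c2d2c410f3e14272625122316110d0b1e071c1b05193c17221528132421102a0e202e1f3009081d331a38030201363d463644302d41402628473c173a390503450034333231430a0b422c2b2a143e133f2511192212200c091d1c020423183b161529272124100f0e0d1f2e2f1e080706381a371b01353e3c4544432e412a244728463b163938373602343307083009420b0d0e40293d2711253f1a1821201f0a1d0600230422173a1514131226100f2b2c0c2d1e2f31321c05190335011b3f4638334342412c4724263c3b3a154537050401443206302f2e2d402b0d1211273d103e1b22140f1f1e1d08230002181716392113292825200e2a0c0b0a091c073136350319341a473d3944343141402b3e4628293a451437363543030042302f082d0a3f2a3b3c0f26250e23191520100d1d1c071a2204051621381312111f27241e0c0b2c092e1b0617183302013240464536433230472c2a3d3c273a393813443534054200412f072d3f0a3e0f283b26250d1c2221121f0e0c23080619180316151437201110291e241d0b2b091b2e1a330417020131473f3b374342412f463e2b24453a29384412353433043101402e062c3d09390e27260c3c231b17131f1e1d0b221a070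021160514203611100f280d251c0a2a08192d15320302301841463c44433347303f3e3d45242628383736113442050340012e2d2c2b2a0e390d3a0b3b1d2218201f0f230c1b1a192100020414131235101e29271c250a09080706321531162f1742464544384733323f2e2d3c3b3a25433736351041403105043e3d2c06070c0b272639241e22212014230f0e1b0a09181716011f131211341d1c0d29281a19082a2b302f0302150047404539433534462f3e3d2a3b3a4427293642410f3231303f02002c2b3c3728380a2509231c21151f1110220b1a19061716200305121e1d330e0d0c1b26240807181304142e012d47413e44433746343f453d3c3b2b392442282940330e31302f2e03013a2a353609260838231d1a201f1322101b211918170715001e04051c0f320d0c0b0a2725160611122d022c144346453c473841403f3e30443b2c2a422436273433320d3d2f2e053a01390928352607371f22211823141d1c1b1a0c201708061e001203100f0e31190b0a291625152d0411022b13474245443b4637353f3e312e433a39384125402933323d0c2f3c2d042b02340827063624231e2120172213111b1a0d0a1f1615141d011c050f0e19300b1809280726102c032a1200444645473c424136333e3d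432e2d3938374025283f3231300b3b3a05032a08340726352420222123181e1d120f1a191f0a091514131c01041b0e0d0c2f17162927062c102b0211004746403d433a41453f3444302f42392c2b36353e2632313c3b0a2d38372a29282733000123221c191f161d211b10200c0b1e15080712111a020e0d18172e091413060504030f24254743453e463b41403f44343c422f3938372a353d242729303a2e092c2b36312832010233231f211a22171d1c1b2010181e0b1514130611190003050c160a2d0807120d040e25260f474445463e42413937433d3c3b31402e3f36353433253a2829382d082b2a2f3002033224232021221a1e1d15131f1918170d1c0a1b1211100f0116040514092c07060b0c26270e004546474443423c40383e36413b32393f2e3d352a333a253027372d2c073402282f053124212223201f1e181c141a121d170e151b0a1911060f16010c031309082b1026040b290d00474642443f45413a43373d333b4031383e2d352b3c3239262f2e362c340629030430252423221e201b211d161f13190f171c0d141a091107180e15020b0a1208102a0527280c010046474544434241403f3c3d3e383a363b3339323037352d342c2e312f262a0528272b2524222321201f1e1d1c1b181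91a141612170f150e0c13110910080a0d0b02062904030701004746454243443f40413b3a383e3d353c3732392f3336312c342e2d302b2729042a2625242322211e1f201b1c1d1716141a191118130e150b0f120d08100a090c0703052806020100474644454142433d3f3e403c373a39333b363134382d35302b2e32262f28292a032c2524232220211d1e1f191b1a1c181316150f17120d101409110c070a0e020b040506270801004745464443423e403b41393c3f353d3837363a342e32312a2f33252729302b282c022d24232122201f1e1a1c171d15181b111914131216100a0e0d060b0f0103050c07040826090047464341453f4440423e3d3c3b3a343837302f39332c2b3635242632312a2928272d012e23221f1d211b201c1e1a191817161014130c0b150f0807121100020e0d0605040309250a4746454440423d433a394136353f3e32313c3b342d3837302f25332c2b2a292827262e00232221201c1e191f16151d12111b1a0e0d1817100914130c0b010f080706050403020a24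

def RV : ℕ := 0x121012221012221112222112221122232112222122221123232122222222222123322222232222232123222223332222233222322223232223222233333222332223233223322233232233333322333223332233233233322333233333323333332333333233333323333332545654445654445554444554445544434554444544445543434544444444444543344444434444434543444443334444433444344443434443444433333444334443433443344433434433333344333443334433433433344333433333343333334333333433333343333334

/-- the coroot with the number `u` -/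
def rt (u : ℕ) (j : Fin 6) : ℤ := ((RV >>> (4 * (6 * u + j)) % 16 : ℕ) : ℤ) - 3

/-- the pair -/
def pr (u : ℕ) : Vec (Fin 6) × Vec (Fin 6) := (rt u ᵥ* C6, rt u)

/-- the reflection `t` on the numbers -/
def a1 (t u : ℕ) : ℕ := RT >>> (8 * (72 * (t % 36) + u)) % 256

/-- the reflection `t` -/
def ro (t : ℕ) : Mat (Fin 6) := rfm (pr (t % 36))

def ac (w : List ℕ) (u : ℕ) : ℕ := w.foldr a1 u

def mt (w : List ℕ) : Mat (Fin 6) := (w.map ro).prod

def ip (x y : Fin 6 → ℤ) : ℤ := (2 * x 0 - x 1) * y 0 + (2 * x 1 - x 0 - x 2) * y 1 + (2 * x 2 - x 1 - x 3 - x 5) * y 2 +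
  (2 * x 3 - x 2 - x 4) * y 3 + (2 * x 4 - x 3) * y 4 + (2 * x 5 - x 2) * y 5

theorem ip_eq (x y : Fin 6 → ℤ) : (x ᵥ* C6) ⬝ᵥ y = ip x y := by
  simp [vecMul, dotProduct, Fin.sum_univ_six, cm, cT, ip]
  ring

theorem b1 : ∀ t < 36, ∀ u < 72, a1 t u < 72 ∧ ∀ j, rt (a1 t u) j = rt u j - ip (rt t) (rt u) * rt t j := by decide +kernel

theorem b2 : (∀ i j : Fin 6, rt i j = if j = i then 1 else 0) ∧ (∀ u < 72, u < 6 ∨ ∃ t < u, t < 36 ∧ ∃ v < u, a1 t v = u) ∧
    (∀ u < 72, ∀ v < 72, (∀ j, rt u j = rt v j) → u = v) ∧ (∀ t < 36, ∀ j, rt (t + 36) j = -rt t j) ∧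
    ∀ t < 36, ∀ t' < 36, a1 t t = a1 t' t → t = t' := by decide +kernel

theorem rt_single (i : Fin 6) : rt i = Pi.single i 1 := funext fun j => (b2.1 i j).trans (Pi.single_apply i (1 : ℤ) j).symm

theorem pr_sp (i : Fin 6) : pr i = sp C6 i := by
  refine Prod.ext (funext fun j => ?_) (rt_single i)
  show (rt i ᵥ* C6) j = C6 j i
  rw [rt_single, single_one_vecMul]
  revert i j
  decide +kernel

theorem ro_rt (t : ℕ) {u : ℕ} (hu : u < 72) : a1 t u < 72 ∧ ro t *ᵥ rt u = rt (a1 t u) := by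
  have h := b1 (t % 36) (Nat.mod_lt _ (by decide)) u hu
  rw [show a1 (t % 36) u = a1 t u by rw [a1, a1, Nat.mod_mod]] at h
  exact ⟨h.1, funext fun j => by rw [ro, rfm_mulVec, h.2 j, pr, ip_eq]; rfl⟩

theorem mt_cons (t : ℕ) (w : List ℕ) : mt (t :: w) = ro t * mt w := List.prod_cons

theorem mt_append (w w' : List ℕ) : mt (w ++ w') = mt w * mt w' := by rw [mt, List.map_append, List.prod_append]; rfl

theorem mt_rt (w : List ℕ) {u : ℕ} (hu : u < 72) : ac w u < 72 ∧ mt w *ᵥ rt u = rt (ac w u) := by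
  induction w with
  | nil => exact ⟨hu, one_mulVec _⟩
  | cons t w ih => exact ⟨(ro_rt t ih.1).1, by rw [mt_cons, ← mulVec_mulVec, ih.2]; exact (ro_rt t ih.1).2⟩

/-- equal words -/
def eqw (w w' : List ℕ) : Prop := ∀ i < 6, ac w i = ac w' i

instance (w w' : List ℕ) : Decidable (eqw w w') := Nat.decidableBallLT _ _

theorem eqw.mt {w w' : List ℕ} (h : eqw w w') : mt w = mt w' := ext_of_mulVec_single fun i => by
  rw [← rt_single, (mt_rt w (i.2.trans (by decide))).2, (mt_rt w' (i.2.trans (by decide))).2, h i i.2]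

theorem fst_eq {a : Vec (Fin 6) × Vec (Fin 6)} (ha : a ∈ Rc C6) : a.1 = a.2 ᵥ* C6 := by
  obtain ⟨w, hw, i, h1, h2⟩ := ha
  obtain ⟨u, -, -, h3⟩ := rs6.inv w hw
  have h4 : ∀ β γ, fm C6 ![1, 1, 1, 1, 1, 1] β γ = (β ᵥ* C6) ⬝ᵥ γ := fun β γ => by
    rw [rs6.comm, dotProduct_comm]
    simp [fm, dotProduct, Fin.sum_univ_six]
  refine dotProduct_eq_iff.1 fun v => ?_
  rw [← one_mulVec v, ← h3, ← mulVec_mulVec, ← h4, ← h1, rs6.iso w hw, h4, dotProduct_mulVec, h2, ← pr_sp]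
  rfl

theorem eq_pr {a : Vec (Fin 6) × Vec (Fin 6)} (ha : a ∈ Rc C6) {u : ℕ} (h : a.2 = rt u) : a = pr u :=
  Prod.ext ((fst_eq ha).trans (congrArg (· ᵥ* C6) h)) h

theorem pr_mem {u : ℕ} (hu : u < 72) : pr u ∈ Rc C6 := by
  induction u using Nat.strong_induction_on with
  | _ u ih =>
    rcases b2.2.1 u hu with h | ⟨t, h1, h2, v, h3, rfl⟩
    · exact (pr_sp ⟨u, h⟩).symm ▸ rs6.mem _
    · obtain ⟨b, hb, h4, -⟩ := rs6.nm _ (rs6.ww ▸ rfm_mem (ih t h1 (h1.trans hu))) _ (ih v h3 (h3.trans hu))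
      have h5 := (ro_rt t (h3.trans hu)).2
      rw [ro, Nat.mod_eq_of_lt h2] at h5
      exact eq_pr hb (h4.symm.trans h5) ▸ hb

theorem ro_mem (t : ℕ) : ro t ∈ WW (Rc C6) := rfm_mem (pr_mem ((Nat.mod_lt _ (by decide)).trans (by decide)))

theorem mt_mem (w : List ℕ) : mt w ∈ WW (Rc C6) := list_prod_mem fun _ h => let ⟨t, _, e⟩ := List.mem_map.1 h; e ▸ ro_mem t

theorem ro_sp (i : Fin 6) : ro i = rfm (sp C6 i) := by rw [ro, Nat.mod_eq_of_lt (i.2.trans (by decide)), pr_sp]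

theorem mem_Rc {a : Vec (Fin 6) × Vec (Fin 6)} (ha : a ∈ Rc C6) : ∃ u < 72, a = pr u := by
  have key : ∀ w ∈ Wc C6, ∀ u < 72, ∃ v < 72, w *ᵥ rt u = rt v := fun w hw => by
    induction hw using Submonoid.closure_induction with
    | mem x hx =>
      obtain ⟨_, ⟨i, rfl⟩, rfl⟩ := hx
      exact fun u hu => ⟨_, (ro_rt i hu).1, ro_sp i ▸ (ro_rt i hu).2⟩
    | one => exact fun u hu => ⟨u, hu, one_mulVec _⟩
    | mul x y _ _ hx hy =>
      intro u hu
      obtain ⟨v, h1, h2⟩ := hy u hu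
      rw [← mulVec_mulVec, h2]
      exact hx v h1
  obtain ⟨w, hw, i, h1, -⟩ := id ha
  obtain ⟨v, h2, h3⟩ := key w hw i (i.2.trans (by decide))
  exact ⟨v, h2, eq_pr ha (h1.symm.trans ((congrArg _ (rt_single i).symm).trans h3))⟩

theorem rfm_pr {u : ℕ} (hu : u < 72) : rfm (pr u) = ro u := by
  rcases lt_or_ge u 36 with h | h
  · rw [ro, Nat.mod_eq_of_lt h]
  · obtain ⟨t, rfl⟩ := Nat.exists_eq_add_of_le' h
    have h1 : rt (t + 36) = -rt t := funext (b2.2.2.2.1 t (by omega))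
    rw [ro, Nat.add_mod_right, Nat.mod_eq_of_lt (by omega), ← rfm_neg (pr t), pr, h1, neg_vecMul]
    rfl

/-- the subsystem of a list of positive roots -/
def Zs (zl : List ℕ) : RS (Fin 6) := {a | ∃ u < 72, u % 36 ∈ zl ∧ a = pr u}

/-- a closed list -/
def ZOk (zl : List ℕ) : Prop := zl.Nodup ∧ ∀ t ∈ zl, t < 36 ∧ ∀ u < 72, u % 36 ∈ zl → a1 t u % 36 ∈ zl

instance (zl : List ℕ) : Decidable (ZOk zl) := by unfold ZOk; infer_instance

theorem Zs_sub (zl : List ℕ) : Zs zl ⊆ Rc C6 := fun _ ⟨_, h, _, e⟩ => e ▸ pr_mem h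

variable {zl : List ℕ}

theorem ro_Z {t : ℕ} (h : t % 36 ∈ zl) : ro t ∈ WW (Zs zl) :=
  rfm_mem ⟨_, (Nat.mod_lt _ (by decide)).trans (by decide), by rwa [Nat.mod_mod], rfl⟩

theorem ZOk.mod (h : ZOk zl) {t : ℕ} (ht : t ∈ zl) : t % 36 ∈ zl := by rwa [Nat.mod_eq_of_lt (h.2 t ht).1]

theorem ZOk.mt (h : ZOk zl) {w : List ℕ} (hw : ∀ t ∈ w, t ∈ zl) : mt w ∈ WW (Zs zl) :=
  list_prod_mem fun _ k => let ⟨t, ht, e⟩ := List.mem_map.1 k; e ▸ ro_Z (h.mod (hw t ht))

theorem ZOk.nm (h : ZOk zl) {w : Mat (Fin 6)} (hw : w ∈ WW (Zs zl)) : Nm w (Zs zl) := by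
  refine Nm.of_WW ?_ hw
  rintro _ ⟨t, ht, h1, rfl⟩ _ ⟨u, hu, h2, rfl⟩
  obtain ⟨b, hb, h3, h4⟩ := rs6.nm _ (rs6.ww ▸ rfm_mem (pr_mem ht)) _ (pr_mem hu)
  refine ⟨b, ⟨_, (ro_rt t hu).1, ?_, eq_pr hb (h3.symm.trans (rfm_pr ht ▸ (ro_rt t hu).2))⟩, h3, h4⟩
  have h5 := (h.2 _ h1).2 u hu h2
  rwa [a1, Nat.mod_mod] at h5

theorem two_Z {a : Vec (Fin 6) × Vec (Fin 6)} (ha : a ∈ Zs zl) : a.1 ⬝ᵥ a.2 = 2 := rs6.two a (Zs_sub zl ha)

theorem ZOk.sum (h : ZOk zl) (g : Mat (Fin 6) → ℂ) : ∑ᶠ ρ ∈ rfm '' Zs zl, g ρ = (zl.map fun t => g (ro t)).sum := by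
  have h1 : rfm '' Zs zl = ro '' (zl.toFinset : Set ℕ) := by
    ext ρ
    constructor
    · rintro ⟨_, ⟨u, hu, h1, rfl⟩, rfl⟩
      exact ⟨u % 36, mem_coe.2 (List.mem_toFinset.2 h1), by rw [rfm_pr hu, ro, ro, Nat.mod_mod]⟩
    · rintro ⟨t, ht, rfl⟩
      exact ⟨_, ⟨_, (Nat.mod_lt _ (by decide)).trans (by decide), by
        rw [Nat.mod_mod]; exact h.mod (List.mem_toFinset.1 (mem_coe.1 ht)), rfl⟩, rfl⟩
  rw [h1, finsum_mem_image, finsum_mem_coe_finset, List.sum_toFinset _ h.1]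
  intro t ht t' ht' e
  have h2 := (h.2 t (List.mem_toFinset.1 (mem_coe.1 ht))).1
  have h3 := (h.2 t' (List.mem_toFinset.1 (mem_coe.1 ht'))).1
  have h4 : t < 72 := h2.trans (by decide)
  exact b2.2.2.2.2 t h2 t' h3 (b2.2.2.1 _ (ro_rt t h4).1 _ (ro_rt t' h4).1
    (congrFun ((ro_rt t h4).2.symm.trans (e ▸ (ro_rt t' h4).2))))

theorem co_one {A : Mat (Fin 6)} (h : A ∈ WW (Rc C6)) : Co (Rc C6) 1 A := ⟨A, h, (mul_one _).symm⟩

theorem Hz.conj {f : Mat (Fin 6) → ℂ} (h : Hz (Rc C6) (Zs zl) 1 f) {u X A : Mat (Fin 6)} (hu : u ∈ WW (Zs zl))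
    (hX : X ∈ WW (Rc C6)) (e : X * u = u * A) : f X = f A := by
  obtain ⟨v, hv, a1, a2⟩ := WW_inv (fun _ => two_Z) hu
  have := h.cj u hu (v * X) (co_one (mul_mem (WW_mono (Zs_sub zl) hv) hX))
  rwa [← mul_assoc, a2, one_mul, mul_assoc, e, ← mul_assoc, a1, one_mul] at this

/-! ### the tables -/

def dec : ℕ → ℕ → List ℕ
  | 0, _ => []
  | f + 1, w => if w = 0 then [] else (w % 64 - 1) :: dec f (w / 64)

/-- the word with the code `w` -/
def dc (w : ℕ) : List ℕ := dec 12 w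

def vx (x : ℕ) (j : Fin 6) : ℤ := ((x >>> (8 * (j : ℕ)) % 256 : ℕ) : ℤ) - 128

def av (w : List ℕ) (x : Fin 6 → ℤ) (j : Fin 6) : ℤ := ∑ i : Fin 6, x i * rt (ac w i) j

theorem av_eq (w : List ℕ) (x : Fin 6 → ℤ) : mt w *ᵥ x = av w x := _root_.funext fun j => by
  show ∑ i, mt w j i * x i = _
  refine sum_congr rfl fun i _ => ?_
  rw [← congrFun (mt_rt w (i.2.trans (by decide))).2 j, rt_single, mulVec_single_one, mul_comm]
  rfl

/-- `x` is killed by the cyclotomic polynomial of index `3 ^ k` -/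
def Wit (k : ℕ) (w : List ℕ) (x : Fin 6 → ℤ) : Prop := (∃ j, x j ≠ 0) ∧ (k = 0 ∧ (∀ j, av w x j - x j = 0) ∨
  k = 1 ∧ (∀ j, x j + av w x j + av (w ++ w) x j = 0) ∨
  k = 2 ∧ ∀ j, x j + av (w ++ w ++ w) x j + av (w ++ w ++ w ++ (w ++ w ++ w)) x j = 0)

instance (k : ℕ) (w : List ℕ) (x : Fin 6 → ℤ) : Decidable (Wit k w x) := by unfold Wit; infer_instance

theorem Wit.eig {k : ℕ} {w : List ℕ} {x : Fin 6 → ℤ} (h : Wit k w x) {μ : ℂ} (hμ : IsPrimitiveRoot μ (3 ^ k)) :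
    Eig (Rc C6) (mt w) μ := by
  obtain ⟨y, h0, h1⟩ := eig_all (A := mt w) (v := x) (by positivity) (Function.ne_iff.2 h.1) (by
    rcases h.2 with ⟨rfl, h'⟩ | ⟨rfl, h'⟩ | ⟨rfl, h'⟩
    · rw [pow_zero, cyclotomic_one, map_sub, aeval_X, map_one, sub_mulVec, one_mulVec, av_eq]
      exact _root_.funext h'
    · rw [show 3 ^ 1 = 3 ^ (0 + 1) from rfl, cyclotomic_prime_pow_eq_geom_sum Nat.prime_three]
      simp only [sum_range_succ, range_zero, sum_empty, zero_add, pow_zero, pow_one, map_add, map_one, sq, map_mul, aeval_X,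
        add_mulVec, one_mulVec, ← mt_append, av_eq]
      exact _root_.funext h'
    · rw [show 3 ^ 2 = 3 ^ (1 + 1) from rfl, cyclotomic_prime_pow_eq_geom_sum Nat.prime_three]
      simp only [sum_range_succ, range_zero, sum_empty, zero_add, pow_zero, pow_one, map_add, map_one, pow_succ, one_mul, map_mul,
        aeval_X, add_mulVec, one_mulVec, ← mt_append, av_eq]
      exact _root_.funext h') hμ
  exact ⟨y, h1, by_contra fun e => h0 (rs6.topC y fun a ha => by_contra fun e' => e ⟨a, ha, e'⟩)⟩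

/-- the classes of one coset -/
structure Tb where
  K : ℕ
  cw : List ℕ
  rows : List (List ℕ)
  wt : List (List ℕ)
  ce : List (List (List (ℕ × ℤ)))

namespace Tb

variable (T : Tb)

def a (i : ℕ) : List ℕ := dc (T.cw.getD i 0)

def w (k i : ℕ) : ℕ := (T.wt.getD k []).getD i 0

def ent (zl : List ℕ) (i t x : ℕ) : Prop :=
  x % 32 < T.K ∧ (∀ s ∈ dc (x / 32), s ∈ zl) ∧ eqw (dc (x / 32) ++ t :: T.a i) (T.a (x % 32) ++ dc (x / 32))

instance (zl : List ℕ) (i t x : ℕ) : Decidable (T.ent zl i t x) := by unfold ent; infer_instance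

def cnt (i j : ℕ) : ℕ := ((T.rows.getD i []).map (· % 32)).count j

def cf (c : List (ℕ × ℤ)) (j : ℕ) : ℤ := (c.map fun (p : ℕ × ℤ) => p.2 * (T.cnt p.1 j : ℤ)).sum

/-- the classes which miss the two eigenvalues different from `3 ^ m` are killed -/
def CeOk (m : ℕ) : Prop := ∀ g < T.K, (∃ k < 3, k ≠ m ∧ T.w k g ≠ 0) ∨
  (∀ p ∈ (T.ce.getD m []).getD g [], p.1 < T.K) ∧ T.cf ((T.ce.getD m []).getD g []) g ≠ 0 ∧
    ∀ j < T.K, j = g ∨ (∃ k < 3, k ≠ m ∧ T.w k j ≠ 0) ∨ T.cf ((T.ce.getD m []).getD g []) j = 0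

instance (m : ℕ) : Decidable (T.CeOk m) := by unfold CeOk; infer_instance

def Ok (zl : List ℕ) : Prop := 0 < T.K ∧ (∀ i < T.K, List.Forall₂ (T.ent zl i) zl (T.rows.getD i [])) ∧
  (∀ k < 3, ∀ i < T.K, T.w k i = 0 ∨ Wit k (T.a i) (vx (T.w k i))) ∧ ∀ m < 3, T.CeOk m

instance (zl : List ℕ) : Decidable (T.Ok zl) := by unfold Ok; infer_instance

variable {T} {f : Mat (Fin 6) → ℂ}

theorem ent.eq {i t x : ℕ} (h : T.ent zl i t x) : mt (T.a (x % 32)) * mt (dc (x / 32)) = mt (dc (x / 32)) * (ro t * mt (T.a i)) := by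
  rw [← mt_append, ← h.2.2.mt, mt_append, mt_cons]

theorem closure (hZ : ZOk zl) (H : T.Ok zl) {w : Mat (Fin 6)} (hw : w ∈ WW (Zs zl)) :
    ∃ i < T.K, ∃ g ∈ WW (Zs zl), mt (T.a i) * g = g * (w * mt (T.a 0)) := by
  induction hw using Submonoid.closure_induction_left with
  | one => exact ⟨0, H.1, 1, one_mem _, by rw [mul_one, one_mul, one_mul]⟩
  | mul_left x hx w _ ih =>
    obtain ⟨a, ha, rfl⟩ := hx
    obtain ⟨i, hi, g, hg, e⟩ := ih
    obtain ⟨_, ⟨t, ht, h1, rfl⟩, e1, e2⟩ := hZ.nm hg a ha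
    obtain ⟨s, hs, e3⟩ := List.getElem_of_mem h1
    have h2 := List.forall₂_iff_get.1 (H.2.1 i hi)
    have h3 := h2.2 s hs (h2.1 ▸ hs)
    rw [List.get_eq_getElem, e3] at h3
    refine ⟨_, h3.1, _ * g, mul_mem (hZ.mt h3.2.1) hg, ?_⟩
    rw [← mul_assoc, h3.eq, mul_assoc, mul_assoc, e, show ro (t % 36) = rfm (pr t) by rw [rfm_pr ht, ro, ro, Nat.mod_mod],
      ← mul_assoc (rfm (pr t)), ← mul_rfm e1 e2]
    simp only [mul_assoc]

theorem row (hZ : ZOk zl) (H : T.Ok zl) (h : Hz (Rc C6) (Zs zl) 1 f) {i : ℕ} (hi : i < T.K) :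
    ∑ j ∈ range T.K, (T.cnt i j : ℂ) * f (mt (T.a j)) = 0 := by
  have h1 := h.cas _ (co_one (mt_mem (T.a i)))
  rw [hZ.sum fun ρ => f (ρ * mt (T.a i))] at h1
  rw [← h1]
  have key : ∀ l₀ l, List.Forall₂ (T.ent zl i) l₀ l → ∑ j ∈ range T.K, (((l.map (· % 32)).count j : ℕ) : ℂ) * f (mt (T.a j)) =
      (l₀.map fun t => f (ro t * mt (T.a i))).sum := fun l₀ l h2 => by
    induction h2 with
    | nil => simp
    | cons h3 _ ih =>
      rw [List.map_cons, List.map_cons, List.sum_cons, ← ih, ← h.conj (hZ.mt h3.2.1) (mt_mem _) h3.eq]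
      simp only [List.count_cons, beq_iff_eq, Nat.cast_add, add_mul, sum_add_distrib, Nat.cast_ite, Nat.cast_one, Nat.cast_zero,
        ite_mul, one_mul, zero_mul, sum_ite_eq, mem_range, h3.1, if_true]
      rw [add_comm]
  exact key _ _ (H.2.1 i hi)

theorem zero (hZ : ZOk zl) (H : T.Ok zl) (h : Hz (Rc C6) (Zs zl) 1 f) {m : ℕ} (hm : m < 3)
    (hs : ∀ k < 3, k ≠ m → ∃ μ, IsPrimitiveRoot μ (3 ^ k) ∧ Ms (Rc C6) 1 f μ) {w : Mat (Fin 6)} (hw : w ∈ WW (Zs zl)) :
    f (w * mt (T.a 0)) = 0 := by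
  have h1 : ∀ j < T.K, (∃ k < 3, k ≠ m ∧ T.w k j ≠ 0) → f (mt (T.a j)) = 0 := fun j hj ⟨k, h1, h2, h3⟩ =>
    let ⟨_, h4, h5⟩ := hs k h1 h2
    h5 _ (co_one (mt_mem _)) (((H.2.2.1 k h1 j hj).resolve_left h3).eig h4)
  obtain ⟨g, hg, u, hu, e⟩ := closure hZ H hw
  rw [← h.conj hu (mt_mem _) e]
  refine (H.2.2.2 m hm g hg).elim (h1 g hg) ?_
  generalize (T.ce.getD m []).getD g [] = c
  rintro ⟨h2, h3, h4⟩
  have h5 : ∑ j ∈ range T.K, (T.cf c j : ℂ) * f (mt (T.a j)) = 0 := by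
    clear h3 h4
    induction c with
    | nil => simp [cf]
    | cons p c ih =>
      have h6 := row hZ H h (h2 p List.mem_cons_self)
      have h7 := ih fun q hq => h2 q (List.mem_cons_of_mem _ hq)
      simp only [cf, List.map_cons, List.sum_cons, Int.cast_add, Int.cast_mul, Int.cast_natCast, add_mul, sum_add_distrib,
        mul_assoc, ← mul_sum] at h7 ⊢
      rw [h6, h7, mul_zero, add_zero]
  rw [sum_eq_single_of_mem g (mem_range.2 hg) fun j hj e => by
    rcases (h4 j (mem_range.1 hj)).resolve_left e with h6 | h6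
    · rw [h1 j (mem_range.1 hj) h6, mul_zero]
    · rw [h6, Int.cast_zero, zero_mul]] at h5
  exact (mul_eq_zero.1 h5).resolve_left (Int.cast_ne_zero.2 h3)

end Tb

/-- the cosets of one subsystem -/
structure Nd where
  zl : List ℕ
  M : ℕ
  gw : List ℕ
  ge : List (List ℕ)
  tabs : List Tb

namespace Nd

variable (N : Nd)

def g (k : ℕ) : List ℕ := dc (N.gw.getD k 0)

def ent (k i x : ℕ) : Prop := x % 256 < N.M ∧ (∀ s ∈ dc (x / 256), s ∈ N.zl) ∧ eqw (N.g k ++ [i]) (dc (x / 256) ++ N.g (x % 256))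

instance (k i x : ℕ) : Decidable (N.ent k i x) := by unfold ent; infer_instance

def Ok : Prop := ZOk N.zl ∧ 0 < N.M ∧ N.g 0 = [] ∧ (∀ k < N.M, ∀ i < 6, N.ent k i ((N.ge.getD k []).getD i 0)) ∧
  ∀ k < N.M, (∃ t ∈ N.zl, ac (N.g k) t % 36 ∉ N.zl) ∨ ∃ T ∈ N.tabs, T.a 0 = N.g k

instance : Decidable N.Ok := by unfold Ok; infer_instance

variable {N} {f : Mat (Fin 6) → ℂ}

theorem cos (H : N.Ok) {w : Mat (Fin 6)} (hw : w ∈ Wc C6) : ∃ k < N.M, ∃ u ∈ WW (Zs N.zl), w = u * mt (N.g k) := by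
  induction hw using Submonoid.closure_induction_right with
  | one => exact ⟨0, H.2.1, 1, one_mem _, by rw [H.2.2.1, one_mul]; rfl⟩
  | mul_right x _ y hy ih =>
    obtain ⟨_, ⟨i, rfl⟩, rfl⟩ := hy
    obtain ⟨k, hk, u, hu, rfl⟩ := ih
    obtain ⟨h1, h2, h3⟩ := H.2.2.2.1 k hk i i.2
    have h4 := h3.mt
    rw [mt_append, mt_append, mt_cons, ro_sp, show mt [] = 1 from rfl, mul_one] at h4
    exact ⟨_, h1, _, mul_mem hu (H.1.mt h2), by rw [mul_assoc, h4, mul_assoc]⟩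

/-- **soundness** -/
theorem zero (H : N.Ok) (HT : ∀ T ∈ N.tabs, T.Ok N.zl) (h : Hz (Rc C6) (Zs N.zl) 1 f) {m : ℕ} (hm : m < 3)
    (hs : ∀ k < 3, k ≠ m → ∃ μ, IsPrimitiveRoot μ (3 ^ k) ∧ Ms (Rc C6) 1 f μ) {A : Mat (Fin 6)} (hA : Co (Rc C6) 1 A) :
    f A = 0 := by
  by_contra h0
  have h1 := h.nm A hA h0
  obtain ⟨w, hw, rfl⟩ := hA
  rw [mul_one] at h0 h1
  obtain ⟨k, hk, u, hu, rfl⟩ := cos H (rs6.ww ▸ hw)
  rcases H.2.2.2.2 k hk with ⟨t, h2, h3⟩ | ⟨T, h2, h3⟩
  · obtain ⟨v, hv, h4, -⟩ := WW_inv (fun _ => two_Z) hu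
    have h5 := Nm.mul (H.1.nm hv) h1
    have h6 : t < 72 := (H.1.2 t h2).1.trans (by decide)
    rw [← mul_assoc, h4, one_mul] at h5
    obtain ⟨_, ⟨s, h7, h8, rfl⟩, h9, -⟩ := h5 _ ⟨t, h6, H.1.mod h2, rfl⟩
    exact h3 (b2.2.2.1 _ h7 _ (mt_rt _ h6).1 (congrFun (h9.symm.trans (mt_rt _ h6).2)) ▸ h8)
  · exact h0 (h3 ▸ Tb.zero H.1 (HT T h2) h hm hs hu)

end Nd

end Cfsg.Agent.OM.On.E6
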