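import Cfsg.Agent.OM.On.E6.Box
import Cfsg.Agent.OM.On.E6.Ax
import Cfsg.Agent.OM.Cu.Glue
import Cfsg.Agent.OM.Cu.Tr
import Cfsg.Agent.OM.Cas.Unif

/-!
# OM/On/E6: the glue (helper66)
-/

set_option autoImplicit false
set_option linter.unusedSectionVars false

namespace Cfsg.Agent.OM.On.E6

open Cfsg Cfsg.Agent.DL Cfsg.Agent.DL.PP Matrix Cfsg.Agent.KZ.Lie Cfsg.Agent.HZ.L Cfsg.Agent.HZ.L.X Cfsg.Agent.OM.Cu
open Cfsg.Agent.LV.Lab (yv)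

theorem pig {M M' : ℕ → Prop} (h : ∀ k, M k ∨ M' k) :
    (∃ m < 3, ∀ k < 3, k ≠ m → M k) ∨ ∃ m < 3, ∀ k < 3, k ≠ m → M' k := by
  have k : ∀ {M : ℕ → Prop}, M 0 ∧ M 1 ∨ M 0 ∧ M 2 ∨ M 1 ∧ M 2 → ∃ m < 3, ∀ k < 3, k ≠ m → M k := fun {M} h => by
    rcases h with h | h | h
    · exact ⟨2, by decide, fun k a b => by interval_cases k; exacts [h.1, h.2, absurd rfl b]⟩
    · exact ⟨1, by decide, fun k a b => by interval_cases k; exacts [h.1, absurd rfl b, h.2]⟩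
    · exact ⟨0, by decide, fun k a b => by interval_cases k; exacts [absurd rfl b, h.1, h.2]⟩
  refine Or.imp k k ?_
  have := h 0
  have := h 1
  have := h 2
  tauto

theorem eig_smul {R : Type} [Fintype R] [DecidableEq R] {Ψ : RS R} {A : Mat R} {μ : ℂ} (h : Eig Ψ A μ) (ε : ℤ) :
    Eig Ψ (ε • A) (ε * μ) := by
  obtain ⟨y, h1, h2⟩ := h
  refine ⟨y, ?_, h2⟩
  rw [IsE, mul_smul, ← h1, ← smul_mulVec]
  congr 1
  ext i j
  rw [map_apply, Matrix.smul_apply, Matrix.smul_apply, map_apply, smul_eq_mul, smul_eq_mul, Int.cast_mul]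

variable {p : ℕ} [Fact p.Prime] {k : Type} [Field k] [CharP k p] [IsAlgClosed k] {Y : Type} [Group Y] {N : Type}
  [Fintype N] [DecidableEq N] {ρ : Y →* GL N k} {F : MulAut Y} {G : Subgroup Y} {D : Datum p ρ F G}
  {j : ℕ} {B : Mat D.R} {P : Matrix D.R (Fin 6) ℤ} {ε : ℤ} {φ : D.W → Mat (Fin 6)} {c : Lbl D} {n : ℕ} {τ : Vec (Fin 6)}

variable (B P ε φ) in
/-- the coset is `ε W(E₆)` -/
structure Fm : Prop where
  tr : Cu.Tr P (Rc C6) (rts D)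
  sq : ε * ε = 1
  mem : ∀ u, φ u ∈ WW (Rc C6)
  eq : ∀ u, D.Wm u * B * P = P * (ε • φ u)
  inj : Function.Injective φ
  surj : ∀ A ∈ WW (Rc C6), ∃ u, φ u = A

theorem can (T : Cu.Tr P (Rc C6) (rts D)) (h : ε * ε = 1) {A A' : Mat (Fin 6)} (e : P * (ε • A) = P * (ε • A')) : A = A' :=
  smul_right_injective _ (left_ne_zero_of_mul_eq_one h) (T.cancel e)

theorem exists_fm (hS : BoxSg) (h : St D j B) (T : Cu.Tr P (Rc C6) (rts D)) : ∃ ε φ, Fm B P ε φ := by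
  obtain ⟨B0, h0⟩ := Gl.exists_B rs6 T h.nm'
  obtain ⟨ε, h1, w, h2, rfl⟩ := hS B0 (T.nm_dn h0 h.nm')
  choose x x1 x2 using fun u => T.ww_dn (Wm_mem (D := D) u)
  have h3 : ∀ u A, D.Wm u * P = P * A → D.Wm u * B * P = P * (ε • (A * w)) := fun u A e => by
    rw [Matrix.mul_assoc, h0, ← Matrix.mul_assoc, e, Matrix.mul_assoc, mul_smul_comm]
  refine ⟨ε, fun u => x u * w, T, h1, fun u => mul_mem (x1 u) h2, fun u => h3 u _ (x2 u), fun u u' e => ?_, fun A hA => ?_⟩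
  · exact Gl.inj_WB h (T.co_eq rs6 h0 h.nm' ⟨_, Wm_mem u, rfl⟩ ⟨_, Wm_mem u', rfl⟩
      (by rw [h3 u _ (x2 u), h3 u' _ (x2 u'), show x u * w = x u' * w from e]))
  · obtain ⟨v, h4, h5, -⟩ := WW_inv rs6.two h2
    obtain ⟨_, h6, h7⟩ := T.ww_up (mul_mem hA h4)
    obtain ⟨u, rfl⟩ := mem_WW.1 h6
    exact ⟨u, by rw [T.cancel ((x2 u).symm.trans h7), mul_assoc, h5, mul_one]⟩

namespace Fm

theorem left (H : Fm B P ε φ) {v : D.W} {x : Mat (Fin 6)} (e : D.Wm v * P = P * x) (u : D.W) : φ (v * u) = x * φ u :=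
  can H.tr H.sq (by
    rw [← H.eq, D.Wm_mul, mul_assoc, Matrix.mul_assoc, H.eq, ← Matrix.mul_assoc, e, Matrix.mul_assoc, mul_smul_comm])

theorem right (H : Fm B P ε φ) (h : St D j B) {v : D.W} {x : Mat (Fin 6)} (e : D.Wm v * P = P * x) (u : D.W) :
    φ (u * D.Fw v) = φ u * x := by
  have h1 := h.tc_iff.1 (LV.Lab.tc_self v 1)
  rw [← mul_assoc, ← D.Wm_mul, mul_one, ← mul_assoc, mul_inv_cancel, one_mul, D.Wm_one, one_mul] at h1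
  refine can H.tr H.sq ?_
  rw [← H.eq, D.Wm_mul, mul_assoc, ← h1, ← mul_assoc, Matrix.mul_assoc, e, ← Matrix.mul_assoc, H.eq, Matrix.mul_assoc,
    smul_mul_assoc]

theorem co (H : Fm B P ε φ) {A : Mat (Fin 6)} (hA : Co (Rc C6) 1 A) : ∃ u, φ u = A :=
  let ⟨w, h, e⟩ := hA
  H.surj A (by rwa [e, mul_one])

theorem rf {Z : RS (Fin 6)} {Ψ : RS D.R} (T : Cu.Tr P Z Ψ) {b : D.I → ℤ} (hb : D.Rt b) (h : (D.wt b, D.cor b) ∈ Ψ) :
    ∃ a ∈ Z, D.Wm (D.rf b) * P = P * rfm a :=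
  let ⟨a, h1, h2, h3⟩ := T.dn _ h
  ⟨a, h1, rfm_eq hb ▸ TrL.rfm_mul h2 h3⟩

theorem sum [Fintype D.W] (H : Fm B P ε φ) (T : Cu.Tr P (Zt (Rc C6) n τ) (Zc (rts D) c)) (y : D.W → ℂ) (x : D.W) :
    ∑ᶠ r ∈ rfm '' Zt (Rc C6) n τ, Function.extend φ y 0 (r * φ x) = Cas.cas D c y x := by
  classical
  rw [show Cas.cas D c y x = ∑ᶠ t ∈ Cas.Rf D c, y (t * x) by
    rw [Cas.cas, finsum_mem_def, finsum_eq_sum_of_fintype]
    exact Finset.sum_congr rfl fun u _ => by rw [Set.indicator_apply]]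
  refine (finsum_mem_eq_of_bijOn (fun t => TrL.dn P (D.Wm t)) ⟨?_, ?_, ?_⟩ ?_).symm
  · rintro _ ⟨b, hb, rfl, h1⟩
    obtain ⟨a, h2, h3⟩ := rf T hb ⟨rt_mem hb, h1⟩
    exact ⟨a, h2, (T.dn_eq h3).symm⟩
  · rintro _ ⟨b, hb, rfl, h1⟩ _ ⟨b', hb', rfl, h1'⟩ e
    obtain ⟨a, -, h3⟩ := rf T hb ⟨rt_mem hb, h1⟩
    obtain ⟨a', -, h3'⟩ := rf T hb' ⟨rt_mem hb', h1'⟩
    simp only [T.dn_eq h3, T.dn_eq h3'] at e
    exact mul_right_cancel (H.inj (by rw [H.left h3 x, H.left h3' x, e]))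
  · rintro _ ⟨a, ha, rfl⟩
    obtain ⟨_, ⟨⟨b, hb, rfl⟩, h1⟩, h2, h3⟩ := T.up a ha
    exact ⟨_, ⟨b, hb, rfl, h1⟩, T.dn_eq (rfm_eq hb ▸ TrL.rfm_mul h2 h3)⟩
  · rintro _ ⟨b, hb, rfl, h1⟩
    obtain ⟨a, -, h3⟩ := rf T hb ⟨rt_mem hb, h1⟩
    rw [T.dn_eq h3, ← H.left h3, H.inj.extend_apply]

variable [Fintype ↥(GF F G)] [Fintype D.W] {f : Fr D} {χ : ↥(GF F G) → ℂ} {w : D.W}

/-- a label which misses the eigenvalue `1` -/
theorem cas_zero (hD : BoxDet) (H : Fm B P ε φ) (hw : Has f χ w c) (hm : Miss B f χ c 1) : Cas.cas D c (yv f χ c) w = 0 := by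
  classical
  refine Finset.sum_eq_zero fun t _ => ite_eq_right_iff.2 ?_
  rintro ⟨b, hb, rfl, -⟩
  obtain ⟨a, h1, h2⟩ := rf H.tr hb (rt_mem hb)
  by_contra h3
  rcases hD ε H.sq _ (H.mem w) a h1 with e | e
  · exact hm w hw (H.tr.eig_up (H.eq w) e)
  · exact hm _ h3 (H.tr.eig_up (H.eq _) (H.left h2 w ▸ e))

/-- an isolated label misses at most one of the three eigenvalues -/
theorem no_two (hP : BoxPu) (H : Fm B P ε φ) (h : St D j B) (hw : Has f χ w c) (hi : Isol (rts D) c)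
    (h0 : ∀ u, Cas.cas D c (yv f χ c) u = 0) {ζ : ℕ → ℂ} (hζ : ∀ k, IsPrimitiveRoot (ζ k) (3 ^ k)) :
    ¬ ∃ m < 3, ∀ k < 3, k ≠ m → Miss B f χ c (ε * ζ k) := by
  rintro ⟨m, hm, hs⟩
  obtain ⟨n, hn, hc⟩ := hw.fo
  have hn0 : n ≠ 0 := fun e => hn (e ▸ dvd_zero p)
  obtain ⟨τ, hτ⟩ := Gl.exists_tau hn0 hc P
  have T := Gl.tr_sub H.tr hτ
  refine hw ((H.inj.extend_apply (yv f χ c) 0 w).symm.trans (hP n τ (Nat.pos_of_ne_zero hn0) (fun lam hl => ?_) _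
    ⟨fun u hu A hA => ?_, fun A hA => ?_, fun A hA e => ?_⟩ m hm (fun k h1 h2 => ⟨_, hζ k, fun A hA e => ?_⟩) _
    (co_one (H.mem w))))
  · refine rs6.top lam fun a ha => ?_
    obtain ⟨b, hb, -, h1⟩ := H.tr.up a ha
    rw [← h1, ← dotProduct_mulVec]
    refine hi _ (fun b hb => ?_) b hb
    obtain ⟨a, ha, -, h1⟩ := T.dn b hb
    rw [dotProduct_mulVec, h1, hl a ha]
  · obtain ⟨x, rfl⟩ := H.co hA
    obtain ⟨_, h1, h2⟩ := T.ww_up hu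
    obtain ⟨v, hv, rfl⟩ := Gl.ww_Zc h1
    rw [← H.left h2, ← H.right h h2, H.inj.extend_apply, H.inj.extend_apply]
    exact (LV.Lab.yv_conj f χ (mul_assoc _ _ _) hv).symm
  · obtain ⟨x, rfl⟩ := H.co hA
    rw [H.sum T, h0]
  · obtain ⟨x, rfl⟩ := H.co hA
    rw [H.inj.extend_apply] at e
    have h1 := T.nm_dn (H.eq x) (Gl.nm_Zc h (Has.fx e))
    rcases mul_self_eq_one_iff.1 H.sq with rfl | rfl
    · rwa [one_smul] at h1
    · have h2 := Nm.neg (Ψ := Zt (Rc C6) n τ) (fun a ha => ⟨rs6.neg a ha.1, by rw [Prod.snd_neg, dotProduct_neg]; exact ha.2.neg_right⟩) h1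
      rwa [neg_smul, one_smul, neg_neg] at h2
  · obtain ⟨x, rfl⟩ := H.co hA
    rw [H.inj.extend_apply]
    exact by_contra fun h3 => hs k h1 h2 x h3 (H.tr.eig_up (H.eq x) (eig_smul e ε))

end Fm

variable (D) [Fintype ↥(GF F G)]

/-- **`E₆`** -/
theorem boxE6_of (hP : BoxPu) (hD : BoxDet) (hS : BoxSg) : BoxE6 D := by
  intro j B h _ he f χ hχ hl _ hn w c w' c' hw hw' _
  by_contra h0
  have := Fintype.ofFinite D.W
  obtain ⟨P, T⟩ := tr6 D he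
  obtain ⟨ε, φ, H⟩ := exists_fm hS h T
  obtain ⟨κ, hκ⟩ := Cas.casU f h.qs χ hχ
  obtain rfl : κ = 0 := (ClA.miss_or1 hl h0 1).elim
    (fun e => (mul_eq_zero.1 ((hκ c w).symm.trans (H.cas_zero hD hw e))).resolve_right hw)
    fun e => (mul_eq_zero.1 ((hκ c' w').symm.trans (H.cas_zero hD hw' e))).resolve_right hw'
  have hζ := fun k : ℕ => Complex.isPrimitiveRoot_exp (3 ^ k) (by positivity)
  exact (pig fun k => ClA.miss_or1 hl h0 _).elim (H.no_two hP h hw (hn w c hw) (fun u => (hκ c u).trans (zero_mul _)) hζ)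
    (H.no_two hP h hw' (hn w' c' hw') (fun u => (hκ c' u).trans (zero_mul _)) hζ)

end Cfsg.Agent.OM.On.E6
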